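import Cfsg.Agent.Known.SpPres.Lift

/-!
# Positive roots, simple roots and triangular matrices
-/

set_option autoImplicit false
set_option linter.unusedSectionVars false

open Matrix

namespace Cfsg.Lib.SpPres

variable {n : ℕ} {F : Type*} [Field F]

/-- The height of a signed index. -/
def ht : Sgn n → ℤ :=
  Sum.elim (fun i => 2 * ((n : ℤ) - i.val) - 1) (fun i => -(2 * ((n : ℤ) - i.val) - 1))

theorem ht_op (a : Sgn n) : ht (op a) = -ht a := by cases a <;> simp [ht, op]

theorem ht_inj {a b : Sgn n} (h : ht a = ht b) : a = b := by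
  rcases a with i | i <;> rcases b with j | j <;> simp [ht] at h <;>
    first
    | (have := i.isLt; have := j.isLt; omega)
    | (rw [show i = j from Fin.ext (by omega)])

/-- A positive root. -/
def Pos (a b : Sgn n) : Prop := Valid a b ∧ 0 < ht a + ht b

theorem Pos.symm {a b : Sgn n} (h : Pos a b) : Pos b a := ⟨h.1.symm, by rw [add_comm]; exact h.2⟩

theorem not_pos_op {a b : Sgn n} (h : Pos a b) : ¬ Pos (op a) (op b) := fun h' => by
  have := h'.2; rw [ht_op, ht_op] at this; have := h.2; omega

theorem valid_op {a b : Sgn n} (h : Valid a b) : Valid (op a) (op b) := fun e => h (op_inj.1 e)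

theorem pos_or {a b : Sgn n} (h : Valid a b) : Pos a b ∨ Pos (op a) (op b) := by
  have hne : ht a + ht b ≠ 0 := fun e => h (ht_inj (by rw [ht_op]; omega))
  rcases lt_or_gt_of_ne hne with h' | h'
  · exact Or.inr ⟨valid_op h, by rw [ht_op, ht_op]; omega⟩
  · exact Or.inl ⟨h, h'⟩

theorem Pos.two_le {a b : Sgn n} (h : Pos a b) : 2 ≤ ht a + ht b := by
  have := h.2
  rcases a with i | i <;> rcases b with j | j <;> simp [ht] at this ⊢ <;> omega

/-- The same unordered pair. -/
def Same (a b c e : Sgn n) : Prop := (c = a ∧ e = b) ∨ (c = b ∧ e = a)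

theorem Same.sum {a b c e : Sgn n} (h : Same a b c e) : ht c + ht e = ht a + ht b := by
  rcases h with ⟨rfl, rfl⟩ | ⟨rfl, rfl⟩ <;> ring

theorem Same.symm {a b c e : Sgn n} (h : Same a b c e) : Same a b e c :=
  h.elim (fun h => Or.inr ⟨h.2, h.1⟩) fun h => Or.inl ⟨h.2, h.1⟩

/-- A simple root with its reflection. -/
structure Simple (n : ℕ) where
  /-- One end. -/
  a : Sgn n
  /-- The other end. -/
  b : Sgn n
  /-- The reflection. -/
  w : W n
  valid : Valid a b
  sum2 : ht a + ht b = 2
  flip : (act w a = op a ∧ act w b = op b) ∨ (act w a = op b ∧ act w b = op a)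
  perm : ∀ c e, Pos c e → ¬ Same a b c e → Pos (act w c) (act w e)

theorem Simple.pos (s : Simple n) : Pos s.a s.b := ⟨s.valid, by rw [s.sum2]; norm_num⟩

theorem act_perm (σ : Equiv.Perm (Fin n)) (a : Sgn n) :
    act (SemidirectProduct.inr σ : W n) a = Sum.map σ σ a := by
  cases a <;> simp +decide [act, turnIdx]

theorem act_turn (c : Fin n → Multiplicative (ZMod 4)) (a : Sgn n) :
    act (SemidirectProduct.inl c : W n) a = turnIdx c a := by
  cases a <;> simp [act]

theorem ht_swap {i j : Fin n} (hij : i.val + 1 = j.val) (c : Sgn n) :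
    ht (Sum.map (Equiv.swap i j) (Equiv.swap i j) c) =
      ht c + (if c = Sum.inl i ∨ c = Sum.inr j then -2 else 0) + (if c = Sum.inl j ∨ c = Sum.inr i then 2 else 0) := by
  have hne : i ≠ j := fun e => by rw [e] at hij; omega
  rcases c with x | x <;> rcases eq_or_ne x i with rfl | h1 <;> [skip; rcases eq_or_ne x j with rfl | h2;
    skip; rcases eq_or_ne x j with rfl | h2] <;>
    simp_all [ht, Equiv.swap_apply_of_ne_of_ne, Ne.symm] <;> omega

/-- The short simple roots. -/
def shortSimple {i j : Fin n} (hij : i.val + 1 = j.val) : Simple n where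
  a := Sum.inl i
  b := Sum.inr j
  w := SemidirectProduct.inr (Equiv.swap i j)
  valid := valid_of_mag (fun e => by simp [mag] at e; rw [e] at hij; omega)
  sum2 := by simp [ht]; omega
  flip := Or.inr (by simp [act_perm, op])
  perm c e h hs := by
    refine ⟨(mp_T (F := ℚ) _ h.1 0).1, ?_⟩
    rw [act_perm, act_perm, ht_swap hij, ht_swap hij]
    have h2 := h.two_le
    have hne : i ≠ j := fun e => by rw [e] at hij; omega
    by_cases hc : c = Sum.inl i ∨ c = Sum.inr j
    · have hc' : ¬ (c = Sum.inl j ∨ c = Sum.inr i) := by rcases hc with rfl | rfl <;> simp [hne, Ne.symm hne]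
      rw [if_pos hc, if_neg hc']
      by_cases he : e = Sum.inl i ∨ e = Sum.inr j
      · have he' : ¬ (e = Sum.inl j ∨ e = Sum.inr i) := by rcases he with rfl | rfl <;> simp [hne, Ne.symm hne]
        rw [if_pos he, if_neg he']
        rcases hc with rfl | rfl <;> rcases he with rfl | rfl
        · simp [ht]; have := i.isLt; have := j.isLt; omega
        · exact absurd (Or.inl ⟨rfl, rfl⟩) hs
        · exact absurd (Or.inr ⟨rfl, rfl⟩) hs
        · exfalso; simp [ht] at h2; have := j.isLt; omega
      · rw [if_neg he]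
        by_cases he' : e = Sum.inl j ∨ e = Sum.inr i
        · rw [if_pos he']; omega
        · rw [if_neg he']
          rcases hc with rfl | rfl <;> rcases e with x | x <;> simp [ht] at h2 he he' hs ⊢ <;>
            have := i.isLt <;> have := j.isLt <;> have := x.isLt <;> omega
    · rw [if_neg hc]
      by_cases he : e = Sum.inl i ∨ e = Sum.inr j
      · have he' : ¬ (e = Sum.inl j ∨ e = Sum.inr i) := by rcases he with rfl | rfl <;> simp [hne, Ne.symm hne]
        rw [if_pos he, if_neg he']
        by_cases hc' : c = Sum.inl j ∨ c = Sum.inr i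
        · rw [if_pos hc']; omega
        · rw [if_neg hc']
          rcases he with rfl | rfl <;> rcases c with x | x <;> simp [ht] at h2 hc hc' hs ⊢ <;>
            have := i.isLt <;> have := j.isLt <;> have := x.isLt <;> omega
      · rw [if_neg he]; split_ifs <;> omega

/-- The quarter turn at an index. -/
def turnAt (i : Fin n) : W n := SemidirectProduct.inl (Pi.mulSingle i (Multiplicative.ofAdd 1))

theorem act_turnAt (i : Fin n) (a : Sgn n) : act (turnAt i) a = if mag a = i then op a else a := by
  rw [turnAt, act_turn, turnIdx]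
  by_cases h : mag a = i
  · simp [h]
  · simp +decide [h]

/-- The long simple root. -/
def longSimple {i : Fin n} (hi : i.val + 1 = n) : Simple n where
  a := Sum.inl i
  b := Sum.inl i
  w := turnAt i
  valid := valid_self _
  sum2 := by simp [ht]; omega
  flip := Or.inl (by simp [act_turnAt, mag])
  perm c e h hs := by
    refine ⟨(mp_T (F := ℚ) _ h.1 0).1, ?_⟩
    have h2 := h.two_le
    rw [act_turnAt, act_turnAt]
    by_cases hc : mag c = i <;> by_cases he : mag e = i
    · rcases eq_or_op (show mag c = mag e by rw [hc, he]) with rfl | rfl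
      · rcases c with x | x <;> simp [mag] at hc <;> subst hc
        · exact absurd (Or.inl ⟨rfl, rfl⟩) hs
        · simp [mag, op, ht] at h2 ⊢; omega
      · rw [ht_op] at h2; omega
    · rw [if_pos hc, if_neg he, ht_op]
      rcases c with x | x <;> simp [mag] at hc <;> subst hc <;> rcases e with y | y <;>
        simp [ht, mag] at h2 he ⊢ <;> have := y.isLt <;> omega
    · rw [if_neg hc, if_pos he, ht_op]
      rcases e with x | x <;> simp [mag] at he <;> subst he <;> rcases c with y | y <;>
        simp [ht, mag] at h2 hc ⊢ <;> have := y.isLt <;> omega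
    · rw [if_neg hc, if_neg he]; omega

/-- Unitriangular matrices for the height. -/
def Tri (M : Matrix (Sgn n) (Sgn n) F) : Prop := ∀ x y, ht x ≤ ht y → M x y = if x = y then 1 else 0

theorem Tri.one : Tri (1 : Matrix (Sgn n) (Sgn n) F) := fun _ _ _ => Matrix.one_apply ..

theorem Tri.mul {M N : Matrix (Sgn n) (Sgn n) F} (hM : Tri M) (hN : Tri N) : Tri (M * N) := fun x y hxy => by
  rw [Matrix.mul_apply, Finset.sum_eq_single x]
  · rw [hM x x le_rfl, if_pos rfl, one_mul, hN x y hxy]
  · intro z _ hz
    by_cases h : ht x ≤ ht z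
    · rw [hM x z h, if_neg hz.symm, zero_mul]
    · rw [hN z y (by omega), if_neg (fun e => by subst e; omega), mul_zero]
  · simp

theorem U_apply (S : Matrix (Sgn n) (Sgn n) F) (x y : Sgn n) :
    U S x y = (if x = y then 1 else 0) + S x (op y) * jj (op y) := by
  rw [U, Matrix.add_apply, Matrix.one_apply, Matrix.mul_apply, Finset.sum_eq_single (op y)]
  · rw [J_apply, if_pos (op_op y).symm]
  · intro z _ hz
    rw [J_apply, if_neg (fun e => hz (by rw [e, op_op])), mul_zero]
  · simp

theorem tri_T {a b : Sgn n} (h : Pos a b) (t : F) : Tri ((T a b t : Sp n F) : Matrix (Sgn n) (Sgn n) F) :=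
  fun x y hxy => by
  rw [coe_T h.1, U_apply, Matrix.smul_apply, sym_apply]
  have h' := h.2
  rw [if_neg (show ¬((x = a ∧ op y = b) ∨ (x = b ∧ op y = a)) from fun e => by
    rcases e with ⟨rfl, e2⟩ | ⟨rfl, e2⟩ <;>
      (have := ht_op y; rw [e2] at this; omega))]
  simp

/-- A monomial triangular matrix is trivial. -/
theorem Tri.mono {M : Matrix (Sgn n) (Sgn n) F} {π : Sgn n → Sgn n} {ε : Sgn n → F} (hT : Tri M) (hM : Mono M π ε)
    (hπ : Function.Injective π) (hε : ∀ j, ε j ≠ 0) (j : Sgn n) : π j = j ∧ ε j = 1 := by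
  have hle : ∀ i, ht i ≤ ht (π i) := fun i => by
    by_contra h
    have h1 := hM (π i) i
    rw [if_pos rfl, hT (π i) i (by omega), if_neg (fun e => h (by rw [e]))] at h1
    exact hε i h1.symm
  have hsum : ∑ i, ht (π i) = ∑ i, ht i :=
    Fintype.sum_bijective π (Finite.injective_iff_bijective.1 hπ) _ _ fun _ => rfl
  have heq : π j = j := by
    refine (ht_inj ?_).symm
    by_contra hne
    have := Finset.sum_lt_sum (s := Finset.univ) (fun i _ => hle i)
      ⟨j, Finset.mem_univ j, lt_of_le_of_ne (hle j) hne⟩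
    omega
  refine ⟨heq, ?_⟩
  have h1 := hM j j
  rw [heq, if_pos rfl, hT j j le_rfl, if_pos rfl] at h1
  exact h1.symm

/-- The signed permutations are generated by the reflections and the half turns. -/
theorem W_closure (hn : 1 ≤ n) (M : Submonoid (W n))
    (hs : ∀ i j : Fin n, i.val + 1 = j.val → (SemidirectProduct.inr (Equiv.swap i j) : W n) ∈ M)
    (hl : ∀ i : Fin n, i.val + 1 = n → turnAt i ∈ M) : M = ⊤ := by
  obtain ⟨m, rfl⟩ : ∃ m, n = m + 1 := ⟨n - 1, by omega⟩
  have hp : ∀ σ : Equiv.Perm (Fin (m + 1)), (SemidirectProduct.inr σ : W (m + 1)) ∈ M := fun σ => by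
    have : (⊤ : Submonoid (Equiv.Perm (Fin (m + 1)))) ≤ M.comap (SemidirectProduct.inr (φ := permAut (m + 1))) := by
      rw [← Equiv.Perm.mclosure_swap_castSucc_succ, Submonoid.closure_le]
      rintro _ ⟨i, rfl⟩
      exact hs _ _ (by simp)
    exact this (Submonoid.mem_top σ)
  have ht : ∀ i : Fin (m + 1), turnAt i ∈ M := fun i => by
    have e : turnAt i = SemidirectProduct.inr (Equiv.swap (Fin.last m) i) * turnAt (Fin.last m) *
        (SemidirectProduct.inr (Equiv.swap (Fin.last m) i) : W (m + 1))⁻¹ := by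
      rw [turnAt, turnAt, ← map_inv, ← SemidirectProduct.inl_aut]
      congr 1
      funext x
      show _ = (Pi.mulSingle (Fin.last m) _ : Fin (m + 1) → Multiplicative (ZMod 4)) ((Equiv.swap (Fin.last m) i)⁻¹ x)
      rw [Equiv.swap_inv]
      simp only [Pi.mulSingle_apply, Equiv.swap_apply_eq_iff, Equiv.swap_apply_left]
    rw [e, ← map_inv]
    exact mul_mem (mul_mem (hp _) (hl _ (by simp))) (hp _)
  refine eq_top_iff.2 fun w _ => ?_
  rw [← SemidirectProduct.inl_left_mul_inr_right w]
  refine mul_mem ?_ (hp _)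
  show w.left ∈ M.comap SemidirectProduct.inl
  rw [← Finset.univ_prod_mulSingle w.left]
  refine Submonoid.prod_mem _ fun i _ => ?_
  show SemidirectProduct.inl _ ∈ M
  have hk : w.left i = Multiplicative.ofAdd 1 ^ (w.left i).toAdd.val := by
    rw [← ofAdd_nsmul, nsmul_one, ZMod.natCast_zmod_val]; rfl
  rw [hk, Pi.mulSingle_pow, map_pow]
  exact Submonoid.pow_mem _ (ht i) _

end Cfsg.Lib.SpPres
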