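import Cfsg.Agent.Known.SpPres.Model

/-!
# Root subgroups of a group lying over the symplectic group
-/

set_option autoImplicit false
set_option linter.unusedSectionVars false

open scoped commutatorElement

namespace Cfsg.Lib.SpPres

variable {n : ℕ} {F : Type*} [Field F]

theorem act_one (a : Sgn n) : act (1 : W n) a = a := by
  have h : act (1 : W n) = act 1 ∘ act 1 := by rw [← act_mul, one_mul]
  exact act_inj 1 (congrFun h a).symm

theorem act_inv_act (w : W n) (a : Sgn n) : act w⁻¹ (act w a) = a := by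
  rw [← Function.comp_apply (f := act w⁻¹), ← act_mul, inv_mul_cancel, act_one]

theorem act_act_inv (w : W n) (a : Sgn n) : act w (act w⁻¹ a) = a := by
  rw [← Function.comp_apply (f := act w), ← act_mul, mul_inv_cancel, act_one]

instance decValid (a b : Sgn n) : Decidable (Valid a b) := inferInstanceAs (Decidable (b ≠ op a))

/-- The first index. -/
def i0 (hn : 2 ≤ n) : Fin n := ⟨0, by omega⟩

/-- The second index. -/
def i1 (hn : 2 ≤ n) : Fin n := ⟨1, by omega⟩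

/-- The third index. -/
def i2 (h3 : 3 ≤ n) : Fin n := ⟨2, by omega⟩

/-- The fourth index. -/
def i3 (h4 : 4 ≤ n) : Fin n := ⟨3, by omega⟩

/-- The two base roots, long and short. -/
def bp (hn : 2 ≤ n) : Bool → Sgn n × Sgn n
  | true => (Sum.inl (i0 hn), Sum.inl (i0 hn))
  | false => (Sum.inl (i0 hn), Sum.inr (i1 hn))

theorem bp_valid (hn : 2 ≤ n) (β : Bool) : Valid (bp hn β).1 (bp hn β).2 := by
  cases β
  · exact valid_of_mag (by simp [bp, mag, i0, i1])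
  · exact valid_self _

theorem bp_eq_iff (hn : 2 ≤ n) (β : Bool) : (bp hn β).1 = (bp hn β).2 ↔ β = true := by
  cases β <;> simp [bp]

/-- A signed permutation carries a base root to a root. -/
def Hit (hn : 2 ≤ n) (w : W n) (β : Bool) (a b : Sgn n) : Prop :=
  (act w (bp hn β).1 = a ∧ act w (bp hn β).2 = b) ∨ (act w (bp hn β).1 = b ∧ act w (bp hn β).2 = a)

theorem Hit.symm {hn : 2 ≤ n} {w : W n} {β : Bool} {a b : Sgn n} (h : Hit hn w β a b) : Hit hn w β b a :=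
  Or.symm h

theorem Hit.mul {hn : 2 ≤ n} {w : W n} {β : Bool} {a b : Sgn n} (h : Hit hn w β a b) (v : W n) :
    Hit hn (v * w) β (act v a) (act v b) := by
  rcases h with ⟨h1, h2⟩ | ⟨h1, h2⟩
  · exact Or.inl ⟨by rw [act_mul, Function.comp_apply, h1], by rw [act_mul, Function.comp_apply, h2]⟩
  · exact Or.inr ⟨by rw [act_mul, Function.comp_apply, h1], by rw [act_mul, Function.comp_apply, h2]⟩

theorem Hit.beta {hn : 2 ≤ n} {w : W n} {β : Bool} {a b : Sgn n} (h : Hit hn w β a b) : a = b ↔ β = true := by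
  rw [← bp_eq_iff hn β, ← (act_inj w).eq_iff (a := (bp hn β).1)]
  rcases h with ⟨h1, h2⟩ | ⟨h1, h2⟩ <;> rw [h1, h2]
  exact eq_comm

theorem Hit.cancel {hn : 2 ≤ n} {w w' : W n} {β : Bool} {a b : Sgn n} (h : Hit hn w β a b)
    (h' : Hit hn w' β a b) : Hit hn (w⁻¹ * w') β (bp hn β).1 (bp hn β).2 := by
  have := h'.mul w⁻¹
  rcases h with ⟨rfl, rfl⟩ | ⟨rfl, rfl⟩
  · rwa [act_inv_act, act_inv_act] at this
  · rw [act_inv_act, act_inv_act] at this; exact this.symm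

theorem exists_act1 (a a' : Sgn n) : ∃ w : W n, act w a = a' := by
  obtain ⟨w, hw⟩ := exists_act (n := n) (f := ![a]) (g := ![a']) (Function.injective_of_subsingleton _)
    (Function.injective_of_subsingleton _)
  exact ⟨w, hw 0⟩

theorem exists_act2 {a b a' b' : Sgn n} (h : mag a ≠ mag b) (h' : mag a' ≠ mag b') :
    ∃ w : W n, act w a = a' ∧ act w b = b' := by
  have e : ∀ x y : Sgn n, mag ∘ ![x, y] = ![mag x, mag y] := fun x y => by funext i; fin_cases i <;> rfl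
  obtain ⟨w, hw⟩ := exists_act (n := n) (f := ![a, b]) (g := ![a', b'])
    (by rw [e]; exact SLnPres.vec2_inj h) (by rw [e]; exact SLnPres.vec2_inj h')
  exact ⟨w, hw 0, hw 1⟩

theorem exists_act3 {a b c a' b' c' : Sgn n} (hab : mag a ≠ mag b) (hbc : mag b ≠ mag c) (hac : mag a ≠ mag c)
    (hab' : mag a' ≠ mag b') (hbc' : mag b' ≠ mag c') (hac' : mag a' ≠ mag c') :
    ∃ w : W n, act w a = a' ∧ act w b = b' ∧ act w c = c' := by
  have e : ∀ x y z : Sgn n, mag ∘ ![x, y, z] = ![mag x, mag y, mag z] := fun x y z => by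
    funext i; fin_cases i <;> rfl
  obtain ⟨w, hw⟩ := exists_act (n := n) (f := ![a, b, c]) (g := ![a', b', c'])
    (by rw [e]; exact SLnPres.vec3_inj hab hbc hac) (by rw [e]; exact SLnPres.vec3_inj hab' hbc' hac')
  exact ⟨w, hw 0, hw 1, hw 2⟩

theorem exists_act4 {a b c d a' b' c' d' : Sgn n} (hab : mag a ≠ mag b) (hac : mag a ≠ mag c) (had : mag a ≠ mag d)
    (hbc : mag b ≠ mag c) (hbd : mag b ≠ mag d) (hcd : mag c ≠ mag d)
    (hab' : mag a' ≠ mag b') (hac' : mag a' ≠ mag c') (had' : mag a' ≠ mag d')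
    (hbc' : mag b' ≠ mag c') (hbd' : mag b' ≠ mag d') (hcd' : mag c' ≠ mag d') :
    ∃ w : W n, act w a = a' ∧ act w b = b' ∧ act w c = c' ∧ act w d = d' := by
  have e : ∀ x y z u : Sgn n, mag ∘ ![x, y, z, u] = ![mag x, mag y, mag z, mag u] := fun x y z u => by
    funext i; fin_cases i <;> rfl
  obtain ⟨w, hw⟩ := exists_act (n := n) (f := ![a, b, c, d]) (g := ![a', b', c', d'])
    (by rw [e]; exact SLnPres.vec4_inj hab hac had hbc hbd hcd)
    (by rw [e]; exact SLnPres.vec4_inj hab' hac' had' hbc' hbd' hcd')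
  exact ⟨w, hw 0, hw 1, hw 2, hw 3⟩

theorem exists_hit (hn : 2 ≤ n) {a b : Sgn n} (h : Valid a b) : ∃ β w, Hit hn w β a b := by
  by_cases hab : a = b
  · subst hab
    obtain ⟨w, hw⟩ := exists_act1 (Sum.inl (i0 hn)) a
    exact ⟨true, w, Or.inl ⟨hw, hw⟩⟩
  · obtain ⟨w, h1, h2⟩ := exists_act2 (a := Sum.inl (i0 hn)) (b := Sum.inr (i1 hn)) (a' := a) (b' := b)
      (by simp [mag, i0, i1]) (mag_ne hab fun e => h (by rw [e, op_op]))
    exact ⟨false, w, Or.inl ⟨h1, h2⟩⟩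

/-- Base data over the symplectic group. -/
structure Base {G : Type*} [Group G] (Φ : G →* Sp n F) (hn : 2 ≤ n) where
  /-- The signed permutations. -/
  ι : W n →* G
  /-- The torus. -/
  τ : (Fin n → Fˣ) →* G
  /-- The two base root groups. -/
  φ : Bool → F → G
  add : ∀ β x y, φ β (x + y) = φ β x * φ β y
  hι : ∀ w, Φ (ι w) = mp w
  hτ : ∀ d, Φ (τ d) = dd d
  hφ : ∀ β t, Φ (φ β t) = T (bp hn β).1 (bp hn β).2 t
  stab : ∀ β w, Hit hn w β (bp hn β).1 (bp hn β).2 → ∀ t, ∃ u, ι w * φ β t * (ι w)⁻¹ = φ β u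
  scale : ∀ β d t, ∃ u, τ d * φ β t * (τ d)⁻¹ = φ β u
  norm : ∀ w d, ∃ d', ι w * τ d * (ι w)⁻¹ = τ d'
  turn2 : ∀ i, ι (SemidirectProduct.inl (Pi.mulSingle i (Multiplicative.ofAdd 2))) ∈ τ.range

namespace Base

variable {G : Type*} [Group G] {Φ : G →* Sp n F} {hn : 2 ≤ n} (D : Base Φ hn)

theorem φ_zero (β : Bool) : D.φ β 0 = 1 := by
  have := D.add β 0 0
  rwa [add_zero, left_eq_mul] at this

/-- A base root group. -/
def R (β : Bool) : Subgroup G :=
  (MonoidHom.mk' (fun x : Multiplicative F => D.φ β x.toAdd) fun _ _ => D.add β _ _).range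

theorem mem_R {β : Bool} {x : G} : x ∈ D.R β ↔ ∃ t, D.φ β t = x :=
  ⟨fun ⟨t, ht⟩ => ⟨t.toAdd, ht⟩, fun ⟨t, ht⟩ => ⟨Multiplicative.ofAdd t, ht⟩⟩

/-- A root subgroup. -/
def K (a b : Sgn n) : Subgroup G :=
  ⨆ (β : Bool) (w : W n) (_ : Hit hn w β a b), (D.R β).map (MulAut.conj (D.ι w)).toMonoidHom

theorem K_eq {β : Bool} {w : W n} {a b : Sgn n} (h : Hit hn w β a b) :
    D.K a b = (D.R β).map (MulAut.conj (D.ι w)).toMonoidHom := by
  refine le_antisymm ?_ (le_iSup_of_le β (le_iSup_of_le w (le_iSup_of_le h le_rfl)))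
  refine iSup_le fun β' => iSup_le fun w' => iSup_le fun h' => ?_
  obtain rfl : β' = β := by
    have e1 := h.beta
    have e2 := h'.beta
    cases β <;> cases β' <;> simp_all
  rintro _ ⟨x, hx, rfl⟩
  obtain ⟨t, rfl⟩ := D.mem_R.1 hx
  obtain ⟨u, hu⟩ := D.stab _ _ (h.cancel h') t
  refine ⟨D.φ _ u, D.mem_R.2 ⟨u, rfl⟩, ?_⟩
  simp only [MulEquiv.coe_toMonoidHom, MulAut.conj_apply, ← hu, map_mul, map_inv]
  group

theorem K_comm (a b : Sgn n) : D.K a b = D.K b a :=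
  le_antisymm
    (iSup_le fun β => iSup_le fun w => iSup_le fun h => le_iSup_of_le β (le_iSup_of_le w (le_iSup_of_le h.symm le_rfl)))
    (iSup_le fun β => iSup_le fun w => iSup_le fun h => le_iSup_of_le β (le_iSup_of_le w (le_iSup_of_le h.symm le_rfl)))

theorem Φ_conj {β : Bool} {w : W n} {a b : Sgn n} (h : Hit hn w β a b) (t : F) :
    ∃ c : F, c ≠ 0 ∧ Φ (D.ι w * D.φ β t * (D.ι w)⁻¹) = T a b (c * t) := by
  refine ⟨eps w (bp hn β).1 * eps w (bp hn β).2, mul_ne_zero (eps_ne _ _) (eps_ne _ _), ?_⟩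
  rw [map_mul, map_mul, map_inv, D.hι, D.hφ, (mp_T w (bp_valid hn β) t).2]
  rcases h with ⟨h1, h2⟩ | ⟨h1, h2⟩
  · rw [h1, h2]
  · rw [h1, h2, T_comm]

theorem exists_X {a b : Sgn n} (h : Valid a b) (t : F) : ∃ x ∈ D.K a b, Φ x = T a b t := by
  obtain ⟨β, w, hw⟩ := exists_hit hn h
  obtain ⟨c, hc, hc'⟩ : ∃ c : F, c ≠ 0 ∧ ∀ s, Φ (D.ι w * D.φ β s * (D.ι w)⁻¹) = T a b (c * s) := by
    refine ⟨eps w (bp hn β).1 * eps w (bp hn β).2, mul_ne_zero (eps_ne _ _) (eps_ne _ _), fun s => ?_⟩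
    rw [map_mul, map_mul, map_inv, D.hι, D.hφ, (mp_T w (bp_valid hn β) s).2]
    rcases hw with ⟨h1, h2⟩ | ⟨h1, h2⟩
    · rw [h1, h2]
    · rw [h1, h2, T_comm]
  refine ⟨D.ι w * D.φ β (c⁻¹ * t) * (D.ι w)⁻¹, ?_, by rw [hc', mul_inv_cancel_left₀ hc]⟩
  rw [D.K_eq hw]
  exact ⟨_, D.mem_R.2 ⟨_, rfl⟩, rfl⟩

theorem K_mem {a b : Sgn n} (h : Valid a b) {x : G} (hx : x ∈ D.K a b) :
    ∃ t : F, Φ x = T a b t ∧ (t = 0 → x = 1) := by
  obtain ⟨β, w, hw⟩ := exists_hit hn h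
  rw [D.K_eq hw] at hx
  obtain ⟨y, hy, rfl⟩ := hx
  obtain ⟨s, rfl⟩ := D.mem_R.1 hy
  obtain ⟨c, hc, hc'⟩ := D.Φ_conj hw s
  refine ⟨c * s, hc', fun h0 => ?_⟩
  rw [(mul_eq_zero.1 h0).resolve_left hc, φ_zero]
  simp

theorem K_inj {a b : Sgn n} (h : Valid a b) {x y : G} (hx : x ∈ D.K a b) (hy : y ∈ D.K a b) (e : Φ x = Φ y) :
    x = y := by
  obtain ⟨t, ht, ht'⟩ := D.K_mem h (mul_mem hx (inv_mem hy))
  rw [map_mul, map_inv, e, mul_inv_cancel] at ht
  by_cases h0 : t = 0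
  · exact mul_inv_eq_one.1 (ht' h0)
  · exact absurd (T_inj (c := a) (d := b) (u := 0) h h h0 (by rw [T_zero, ht])).2 h0

/-- The root elements. -/
noncomputable def X (a b : Sgn n) (t : F) : G := if h : Valid a b then (D.exists_X h t).choose else 1

theorem X_spec {a b : Sgn n} (h : Valid a b) (t : F) : D.X a b t ∈ D.K a b ∧ Φ (D.X a b t) = T a b t := by
  rw [X, dif_pos h]; exact (D.exists_X h t).choose_spec

theorem eq_X {a b : Sgn n} (h : Valid a b) {t : F} {x : G} (hx : x ∈ D.K a b) (e : Φ x = T a b t) :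
    x = D.X a b t := D.K_inj h hx (D.X_spec h t).1 (e.trans (D.X_spec h t).2.symm)

theorem exists_eq_X {a b : Sgn n} (h : Valid a b) {x : G} (hx : x ∈ D.K a b) : ∃ t, x = D.X a b t := by
  obtain ⟨t, ht, -⟩ := D.K_mem h hx
  exact ⟨t, D.eq_X h hx ht⟩

theorem X_add {a b : Sgn n} (h : Valid a b) (t u : F) : D.X a b (t + u) = D.X a b t * D.X a b u :=
  (D.eq_X h (mul_mem (D.X_spec h t).1 (D.X_spec h u).1)
    (by rw [map_mul, (D.X_spec h t).2, (D.X_spec h u).2, T_add])).symm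

theorem X_zero {a b : Sgn n} (h : Valid a b) : D.X a b 0 = 1 :=
  (D.eq_X h (one_mem _) (by rw [map_one, T_zero])).symm

theorem X_neg {a b : Sgn n} (h : Valid a b) (t : F) : D.X a b (-t) = (D.X a b t)⁻¹ :=
  eq_inv_of_mul_eq_one_left (by rw [← D.X_add h, neg_add_cancel, D.X_zero h])

theorem φ_eq_X (β : Bool) (t : F) : D.φ β t = D.X (bp hn β).1 (bp hn β).2 t := by
  refine D.eq_X (bp_valid hn β) ?_ (D.hφ β t)
  rw [D.K_eq (β := β) (w := 1) (Or.inl ⟨act_one _, act_one _⟩)]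
  exact ⟨D.φ β t, D.mem_R.2 ⟨t, rfl⟩, by simp⟩

theorem ι_conj (v : W n) {a b : Sgn n} (h : Valid a b) {x : G} (hx : x ∈ D.K a b) :
    D.ι v * x * (D.ι v)⁻¹ ∈ D.K (act v a) (act v b) := by
  obtain ⟨β, w, hw⟩ := exists_hit hn h
  rw [D.K_eq hw] at hx
  rw [D.K_eq (hw.mul v)]
  obtain ⟨y, hy, rfl⟩ := hx
  exact ⟨y, hy, by simp [mul_assoc]⟩

theorem X_ι (v : W n) {a b : Sgn n} (h : Valid a b) (t : F) :
    D.ι v * D.X a b t * (D.ι v)⁻¹ = D.X (act v a) (act v b) (eps v a * eps v b * t) :=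
  D.eq_X (mp_T (F := F) v h t).1 (D.ι_conj v h (D.X_spec h t).1)
    (by rw [map_mul, map_mul, map_inv, D.hι, (D.X_spec h t).2, (mp_T v h t).2])

theorem τ_conj (d : Fin n → Fˣ) {a b : Sgn n} (h : Valid a b) {x : G} (hx : x ∈ D.K a b) :
    D.τ d * x * (D.τ d)⁻¹ ∈ D.K a b := by
  obtain ⟨β, w, hw⟩ := exists_hit hn h
  rw [D.K_eq hw] at hx ⊢
  obtain ⟨y, hy, rfl⟩ := hx
  obtain ⟨t, rfl⟩ := D.mem_R.1 hy
  obtain ⟨d', hd'⟩ := D.norm w⁻¹ d
  obtain ⟨u, hu⟩ := D.scale β d' t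
  refine ⟨D.φ β u, D.mem_R.2 ⟨u, rfl⟩, ?_⟩
  simp only [MulEquiv.coe_toMonoidHom, MulAut.conj_apply, ← hu, ← hd', map_inv]
  group

theorem X_τ (d : Fin n → Fˣ) {a b : Sgn n} (h : Valid a b) (t : F) :
    D.τ d * D.X a b t * (D.τ d)⁻¹ = D.X a b (chi d a * chi d b * t) :=
  D.eq_X h (D.τ_conj d h (D.X_spec h t).1)
    (by rw [map_mul, map_mul, map_inv, D.hτ, (D.X_spec h t).2, dd_T d h t])

/-- Commutators of two root groups lie in a subgroup. -/
def Cm (a b c e : Sgn n) (L : Subgroup G) : Prop := ∀ x ∈ D.K a b, ∀ y ∈ D.K c e, ⁅x, y⁆ ∈ L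

theorem Cm.swap₁ {a b c e : Sgn n} {L : Subgroup G} (h : D.Cm a b c e L) : D.Cm b a c e L :=
  fun x hx => h x (by rwa [D.K_comm])

theorem Cm.swap₂ {a b c e : Sgn n} {L : Subgroup G} (h : D.Cm a b c e L) : D.Cm a b e c L :=
  fun x hx y hy => h x hx y (by rwa [D.K_comm])

theorem Cm.symm {a b c e : Sgn n} {L : Subgroup G} (h : D.Cm a b c e L) : D.Cm c e a b L :=
  fun x hx y hy => by rw [← inv_mem_iff, commutatorElement_inv]; exact h y hy x hx

theorem Cm.commute {a b c e : Sgn n} (h : D.Cm a b c e ⊥) {x y : G} (hx : x ∈ D.K a b) (hy : y ∈ D.K c e) :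
    Commute x y := commutatorElement_eq_one_iff_commute.1 (Subgroup.mem_bot.1 (h x hx y hy))

theorem Cm.move {a b c e : Sgn n} (hab : Valid a b) (hce : Valid c e) {L L' : Subgroup G} (h : D.Cm a b c e L)
    (w : W n) (hL : ∀ z ∈ L, D.ι w * z * (D.ι w)⁻¹ ∈ L') :
    D.Cm (act w a) (act w b) (act w c) (act w e) L' := by
  intro x hx y hy
  have hv := (mp_T (F := F) w hab 0).1
  have hv' := (mp_T (F := F) w hce 0).1
  have hx' := D.ι_conj w⁻¹ hv hx
  have hy' := D.ι_conj w⁻¹ hv' hy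
  rw [act_inv_act, act_inv_act] at hx' hy'
  have := hL _ (h _ hx' _ hy')
  rwa [map_inv, inv_inv, conjugate_commutatorElement,
    show D.ι w * ((D.ι w)⁻¹ * x * D.ι w) * (D.ι w)⁻¹ = x by group,
    show D.ι w * ((D.ι w)⁻¹ * y * D.ι w) * (D.ι w)⁻¹ = y by group] at this

/-- A commutator relation at one point spreads over the field. -/
theorem spread [Finite F] {a b c e : Sgn n} (hab : Valid a b) (hce : Valid c e) (L : Subgroup G)
    (hr : ∀ x ∈ D.K a b, ∀ z ∈ L, x * z * x⁻¹ ∈ L) (hs : ∀ y ∈ D.K c e, ∀ z ∈ L, y * z * y⁻¹ ∈ L)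
    (hτ : ∀ d, ∀ z ∈ L, D.τ d * z * (D.τ d)⁻¹ ∈ L)
    (h1 : ∀ l : Fˣ, ∃ d, chi d a * chi d b = 1 ∧ chi d c * chi d e = (l : F) * l)
    (h2 : ∀ l : Fˣ, ∃ d, chi d a * chi d b = (l : F) * l)
    (seed : ⁅D.X a b 1, D.X c e 1⁆ ∈ L) : D.Cm a b c e L := by
  have scale : ∀ d t u, ⁅D.X a b t, D.X c e u⁆ ∈ L →
      ⁅D.X a b (chi d a * chi d b * t), D.X c e (chi d c * chi d e * u)⁆ ∈ L := fun d t u h => by
    have := hτ d _ h
    rwa [conjugate_commutatorElement, D.X_τ d hab, D.X_τ d hce] at this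
  let B : F → AddSubgroup F := fun t =>
    { carrier := {u | ⁅D.X a b t, D.X c e u⁆ ∈ L}
      zero_mem' := by show ⁅_, _⁆ ∈ L; rw [D.X_zero hce, commutatorElement_one_right]; exact one_mem _
      add_mem' := fun {u v} hu hv => by
        show ⁅_, _⁆ ∈ L
        have e : ∀ x y z : G, ⁅x, y * z⁆ = ⁅x, y⁆ * (y * ⁅x, z⁆ * y⁻¹) := fun x y z => by
          simp only [commutatorElement_def]; group
        rw [D.X_add hce, e]
        exact mul_mem hu (hs _ (D.X_spec hce u).1 _ hv)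
      neg_mem' := fun {u} hu => by
        show ⁅_, _⁆ ∈ L
        have e : ∀ x y : G, ⁅x, y⁻¹⁆ = y⁻¹ * ⁅x, y⁆⁻¹ * y⁻¹⁻¹ := fun x y => by
          simp only [commutatorElement_def]; group
        rw [D.X_neg hce, e]
        exact hs _ (inv_mem (D.X_spec hce u).1) _ (inv_mem hu) }
  let A : F → AddSubgroup F := fun u =>
    { carrier := {t | ⁅D.X a b t, D.X c e u⁆ ∈ L}
      zero_mem' := by show ⁅_, _⁆ ∈ L; rw [D.X_zero hab, commutatorElement_one_left]; exact one_mem _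
      add_mem' := fun {t s} ht hs' => by
        show ⁅_, _⁆ ∈ L
        have e : ∀ x y z : G, ⁅x * y, z⁆ = x * ⁅y, z⁆ * x⁻¹ * ⁅x, z⁆ := fun x y z => by
          simp only [commutatorElement_def]; group
        rw [D.X_add hab, e]
        exact mul_mem (hr _ (D.X_spec hab t).1 _ hs') ht
      neg_mem' := fun {t} ht => by
        show ⁅_, _⁆ ∈ L
        have e : ∀ x y : G, ⁅x⁻¹, y⁆ = x⁻¹ * ⁅x, y⁆⁻¹ * x⁻¹⁻¹ := fun x y => by
          simp only [commutatorElement_def]; group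
        rw [D.X_neg hab, e]
        exact hr _ (inv_mem (D.X_spec hab t).1) _ (inv_mem ht) }
  have hB : B 1 = ⊤ := SLnPres.squares_span _ fun l hl => by
    obtain ⟨d, e1, e2⟩ := h1 (Units.mk0 l hl)
    have := scale d 1 1 seed
    rwa [mul_one, mul_one, e1, e2] at this
  have hA : ∀ u, A u = ⊤ := fun u => SLnPres.squares_span _ fun l hl => by
    obtain ⟨d, e1⟩ := h2 (Units.mk0 l hl)
    have h0 : (chi d c * chi d e)⁻¹ * u ∈ B 1 := by rw [hB]; trivial
    have := scale d 1 _ h0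
    rwa [mul_one, e1, mul_inv_cancel_left₀ (mul_ne_zero (chi_ne d c) (chi_ne d e))] at this
  intro x hx y hy
  obtain ⟨t, rfl⟩ := D.exists_eq_X hab hx
  obtain ⟨u, rfl⟩ := D.exists_eq_X hce hy
  have : t ∈ A u := by rw [hA u]; trivial
  exact this

/-- The relations at the seeds. -/
structure Seeds : Prop where
  s1 : ∀ h : 3 ≤ n, ⁅D.X (.inl (i0 hn)) (.inr (i1 hn)) 1, D.X (.inl (i1 hn)) (.inr (i2 h)) 1⁆ ∈
    D.K (.inl (i0 hn)) (.inr (i2 h))
  s2 : ∀ h : 3 ≤ n, ⁅D.X (.inl (i0 hn)) (.inr (i1 hn)) 1, D.X (.inl (i0 hn)) (.inr (i2 h)) 1⁆ = 1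
  s3 : ∀ (h : 3 ≤ n) (h' : 4 ≤ n),
    ⁅D.X (.inl (i0 hn)) (.inr (i1 hn)) 1, D.X (.inl (i2 h)) (.inr (i3 h')) 1⁆ = 1
  s4 : ⁅D.X (.inl (i0 hn)) (.inr (i1 hn)) 1, D.X (.inl (i0 hn)) (.inl (i1 hn)) 1⁆ ∈
    D.K (.inl (i0 hn)) (.inl (i0 hn))
  s5 : ⁅D.X (.inl (i0 hn)) (.inr (i1 hn)) 1, D.X (.inl (i1 hn)) (.inl (i1 hn)) 1⁆ ∈
    D.K (.inl (i0 hn)) (.inl (i1 hn)) ⊔ D.K (.inl (i0 hn)) (.inl (i0 hn))
  s6 : ⁅D.X (.inl (i0 hn)) (.inr (i1 hn)) 1, D.X (.inl (i0 hn)) (.inl (i0 hn)) 1⁆ = 1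
  s7 : ∀ h : 3 ≤ n, ⁅D.X (.inl (i0 hn)) (.inr (i1 hn)) 1, D.X (.inl (i2 h)) (.inl (i2 h)) 1⁆ = 1
  s8 : ⁅D.X (.inl (i0 hn)) (.inl (i0 hn)) 1, D.X (.inl (i1 hn)) (.inl (i1 hn)) 1⁆ = 1

variable [Finite F] {D}

theorem spread_one {a b c e : Sgn n} (hab : Valid a b) (hce : Valid c e)
    (h1 : ∀ l : Fˣ, ∃ d, chi d a * chi d b = 1 ∧ chi d c * chi d e = (l : F) * l)
    (h2 : ∀ l : Fˣ, ∃ d, chi d a * chi d b = (l : F) * l) (seed : ⁅D.X a b 1, D.X c e 1⁆ = 1) :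
    D.Cm a b c e ⊥ :=
  D.spread hab hce ⊥ (fun x _ z hz => by simp [Subgroup.mem_bot.1 hz]) (fun x _ z hz => by simp [Subgroup.mem_bot.1 hz])
    (fun d z hz => by simp [Subgroup.mem_bot.1 hz]) h1 h2 (Subgroup.mem_bot.2 seed)

theorem move_one {a b c e : Sgn n} (hab : Valid a b) (hce : Valid c e) (h : D.Cm a b c e ⊥) (w : W n) :
    D.Cm (act w a) (act w b) (act w c) (act w e) ⊥ :=
  h.move D hab hce w fun z hz => by simp [Subgroup.mem_bot.1 hz]

theorem one_half (hn : 2 ≤ n) (l : Fˣ) : ∃ d : Fin n → Fˣ,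
    chi d (Sum.inl (i0 hn)) * chi d (Sum.inr (i1 hn)) = (l : F) * l :=
  ⟨Pi.mulSingle (i0 hn) (l * l), by simp [chi, i0, i1]⟩

variable (S : D.Seeds)
include S

theorem comm_share {a b c : Sgn n} (hab : mag a ≠ mag b) (hbc : mag b ≠ mag c) (hac : mag a ≠ mag c) :
    D.Cm a b a c ⊥ := by
  have h3 : 3 ≤ n := by
    have := Fintype.card_le_of_injective _ (SLnPres.vec3_inj hab hbc hac)
    simpa using this
  obtain ⟨w, ha, hb, hc⟩ := exists_act3 (a := Sum.inl (i0 hn)) (b := Sum.inr (i1 hn)) (c := Sum.inr (i2 h3))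
    (by simp [mag, i0, i1]) (by simp [mag, i1, i2]) (by simp [mag, i0, i2]) hab hbc hac
  rw [← ha, ← hb, ← hc]
  have v1 : Valid (Sum.inl (i0 hn)) (Sum.inr (i1 hn) : Sgn n) := valid_of_mag (by simp [mag, i0, i1])
  have v2 : Valid (Sum.inl (i0 hn)) (Sum.inr (i2 h3) : Sgn n) := valid_of_mag (by simp [mag, i0, i2])
  refine move_one v1 v2 (spread_one v1 v2 (fun l => ⟨Pi.mulSingle (i2 h3) (l * l)⁻¹, ?_⟩) (one_half hn) (S.s2 h3)) w
  simp [chi, i0, i1, i2]

theorem comm_four {a b c e : Sgn n} (hab : mag a ≠ mag b) (hac : mag a ≠ mag c) (hae : mag a ≠ mag e)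
    (hbc : mag b ≠ mag c) (hbe : mag b ≠ mag e) (hce : mag c ≠ mag e) : D.Cm a b c e ⊥ := by
  have h4 : 4 ≤ n := by
    have := Fintype.card_le_of_injective _ (SLnPres.vec4_inj hab hac hae hbc hbe hce)
    simpa using this
  have h3 : 3 ≤ n := by omega
  obtain ⟨w, ha, hb, hc, he⟩ := exists_act4 (a := Sum.inl (i0 hn)) (b := Sum.inr (i1 hn)) (c := Sum.inl (i2 h3))
    (d := Sum.inr (i3 h4)) (by simp [mag, i0, i1]) (by simp [mag, i0, i2]) (by simp [mag, i0, i3])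
    (by simp [mag, i1, i2]) (by simp [mag, i1, i3]) (by simp [mag, i2, i3]) hab hac hae hbc hbe hce
  rw [← ha, ← hb, ← hc, ← he]
  have v1 : Valid (Sum.inl (i0 hn)) (Sum.inr (i1 hn) : Sgn n) := valid_of_mag (by simp [mag, i0, i1])
  have v2 : Valid (Sum.inl (i2 h3)) (Sum.inr (i3 h4) : Sgn n) := valid_of_mag (by simp [mag, i2, i3])
  refine move_one v1 v2 (spread_one v1 v2 (fun l => ⟨Pi.mulSingle (i2 h3) (l * l), ?_⟩) (one_half hn) (S.s3 h3 h4)) w
  simp [chi, i0, i1, i2, i3]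

theorem comm_long {a b : Sgn n} (hab : mag a ≠ mag b) : D.Cm a b a a ⊥ := by
  obtain ⟨w, ha, hb⟩ := exists_act2 (a := Sum.inl (i0 hn)) (b := Sum.inr (i1 hn)) (by simp [mag, i0, i1]) hab
  rw [← ha, ← hb]
  have v1 : Valid (Sum.inl (i0 hn)) (Sum.inr (i1 hn) : Sgn n) := valid_of_mag (by simp [mag, i0, i1])
  refine move_one v1 (valid_self _) (spread_one v1 (valid_self _)
    (fun l => ⟨Pi.mulSingle (i0 hn) l * Pi.mulSingle (i1 hn) l, ?_⟩) (one_half hn) S.s6) w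
  simp [chi, i0, i1]

theorem comm_long_three {a b c : Sgn n} (hab : mag a ≠ mag b) (hbc : mag b ≠ mag c) (hac : mag a ≠ mag c) :
    D.Cm a b c c ⊥ := by
  have h3 : 3 ≤ n := by
    have := Fintype.card_le_of_injective _ (SLnPres.vec3_inj hab hbc hac)
    simpa using this
  obtain ⟨w, ha, hb, hc⟩ := exists_act3 (a := Sum.inl (i0 hn)) (b := Sum.inr (i1 hn)) (c := Sum.inl (i2 h3))
    (by simp [mag, i0, i1]) (by simp [mag, i1, i2]) (by simp [mag, i0, i2]) hab hbc hac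
  rw [← ha, ← hb, ← hc]
  have v1 : Valid (Sum.inl (i0 hn)) (Sum.inr (i1 hn) : Sgn n) := valid_of_mag (by simp [mag, i0, i1])
  refine move_one v1 (valid_self _) (spread_one v1 (valid_self _) (fun l => ⟨Pi.mulSingle (i2 h3) l, ?_⟩)
    (one_half hn) (S.s7 h3)) w
  simp [chi, i0, i1, i2]

theorem comm_long_long {a b : Sgn n} (hab : mag a ≠ mag b) : D.Cm a a b b ⊥ := by
  obtain ⟨w, ha, hb⟩ := exists_act2 (a := Sum.inl (i0 hn)) (b := Sum.inl (i1 hn)) (by simp [mag, i0, i1]) hab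
  rw [← ha, ← hb]
  refine move_one (valid_self _) (valid_self _) (spread_one (valid_self _) (valid_self _)
    (fun l => ⟨Pi.mulSingle (i1 hn) l, ?_⟩) (fun l => ⟨Pi.mulSingle (i0 hn) l, ?_⟩) S.s8) w
  · simp [chi, i0, i1]
  · simp [chi]

/-- Root groups commute unless two indices are opposite. -/
theorem comm_zero {a b c e : Sgn n} (hab : Valid a b) (hce : Valid c e) (h1 : c ≠ op a) (h2 : c ≠ op b)
    (h3 : e ≠ op a) (h4 : e ≠ op b) : D.Cm a b c e ⊥ := by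
  have same : ∀ {a b : Sgn n}, Valid a b → D.Cm a b a b ⊥ := fun {a b} h x hx y hy => by
    obtain ⟨t, rfl⟩ := D.exists_eq_X h hx
    obtain ⟨u, rfl⟩ := D.exists_eq_X h hy
    rw [Subgroup.mem_bot, commutatorElement_eq_one_iff_commute]
    show _ = _
    rw [← D.X_add h, ← D.X_add h, add_comm]
  have hm : ∀ {x y : Sgn n}, x ≠ y → y ≠ op x → mag x ≠ mag y := fun h h' =>
    mag_ne h fun e => h' (by rw [e, op_op])
  by_cases hab' : a = b
  · subst hab'
    by_cases hce' : c = e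
    · subst hce'
      by_cases hac : a = c
      · subst hac; exact same (valid_self a)
      · exact comm_long_long S (hm hac h1)
    · by_cases hac : a = c
      · subst hac; exact (comm_long S (hm hce' hce)).symm D
      by_cases hae : a = e
      · subst hae; exact ((comm_long S (hm (Ne.symm hce') hce.symm)).swap₁ D).symm D
      exact (comm_long_three S (hm hce' hce) (hm hae h3).symm (hm hac h1).symm).symm D
  by_cases hce' : c = e
  · subst hce'
    by_cases hac : a = c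
    · subst hac; exact comm_long S (hm hab' hab)
    by_cases hbc : b = c
    · subst hbc; exact (comm_long S (hm (Ne.symm hab') hab.symm)).swap₁ D
    exact comm_long_three S (hm hab' hab) (hm hbc h2) (hm hac h1)
  have mab := hm hab' hab
  have mce := hm hce' hce
  by_cases hac : a = c
  · subst hac
    by_cases hbe : b = e
    · subst hbe; exact same hab
    · exact comm_share S mab (hm hbe h4) mce
  by_cases hae : a = e
  · subst hae
    by_cases hbc : b = c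
    · subst hbc; exact (same hab).swap₂ D
    · exact (comm_share S mab (hm hbc h2) mce.symm).swap₂ D
  by_cases hbc : b = c
  · subst hbc; exact (comm_share S mab.symm (hm hae h3) mce).swap₁ D
  by_cases hbe : b = e
  · subst hbe; exact ((comm_share S mab.symm (hm hac h1) mce.symm).swap₁ D).swap₂ D
  exact comm_four S mab (hm hac h1) (hm hae h3) (hm hbc h2) (hm hbe h4) mce

theorem comm_opp {a b : Sgn n} (hab : mag a ≠ mag b) : D.Cm a b a (op b) (D.K a a) := by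
  obtain ⟨w, ha, hb⟩ := exists_act2 (a := Sum.inl (i0 hn)) (b := Sum.inr (i1 hn)) (by simp [mag, i0, i1]) hab
  rw [← ha, ← hb, ← act_op]
  have v1 : Valid (Sum.inl (i0 hn)) (Sum.inr (i1 hn) : Sgn n) := valid_of_mag (by simp [mag, i0, i1])
  have v2 : Valid (Sum.inl (i0 hn)) (Sum.inl (i1 hn) : Sgn n) := valid_of_mag (by simp [mag, i0, i1])
  refine Cm.move D v1 v2 (D.spread v1 v2 _ ?_ ?_ (fun d z hz => D.τ_conj d (valid_self _) hz)
    (fun l => ⟨Pi.mulSingle (i0 hn) l * Pi.mulSingle (i1 hn) l, ?_⟩) (one_half hn) S.s4) w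
    fun z hz => D.ι_conj w (valid_self _) hz
  · intro x hx z hz
    rw [(Cm.commute D (comm_long S (by simp [mag, i0, i1])) hx hz).eq, mul_inv_cancel_right]; exact hz
  · intro x hx z hz
    rw [(Cm.commute D (comm_long S (by simp [mag, i0, i1])) hx hz).eq, mul_inv_cancel_right]; exact hz
  · simp [chi, i0, i1]

theorem comm_chain {a b c : Sgn n} (hab : mag a ≠ mag b) (hbc : mag b ≠ mag c) (hac : mag a ≠ mag c) :
    D.Cm a b (op b) c (D.K a c) := by
  have h3 : 3 ≤ n := by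
    have := Fintype.card_le_of_injective _ (SLnPres.vec3_inj hab hbc hac)
    simpa using this
  obtain ⟨w, ha, hb, hc⟩ := exists_act3 (a := Sum.inl (i0 hn)) (b := Sum.inr (i1 hn)) (c := Sum.inr (i2 h3))
    (by simp [mag, i0, i1]) (by simp [mag, i1, i2]) (by simp [mag, i0, i2]) hab hbc hac
  rw [← ha, ← hb, ← hc, ← act_op]
  have v1 : Valid (Sum.inl (i0 hn)) (Sum.inr (i1 hn) : Sgn n) := valid_of_mag (by simp [mag, i0, i1])
  have v2 : Valid (Sum.inl (i1 hn)) (Sum.inr (i2 h3) : Sgn n) := valid_of_mag (by simp [mag, i1, i2])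
  have v3 : Valid (Sum.inl (i0 hn)) (Sum.inr (i2 h3) : Sgn n) := valid_of_mag (by simp [mag, i0, i2])
  refine Cm.move D v1 v2 (D.spread v1 v2 _ ?_ ?_ (fun d z hz => D.τ_conj d v3 hz)
    (fun l => ⟨Pi.mulSingle (i2 h3) (l * l)⁻¹, ?_⟩) (one_half hn) (S.s1 h3)) w fun z hz => D.ι_conj w v3 hz
  · intro x hx z hz
    rw [(Cm.commute D (comm_zero S v1 v3 (by simp [op, i0]) (by simp [op, i0, i1]) (by simp [op, i0, i2])
      (by simp [op, i1, i2])) hx hz).eq, mul_inv_cancel_right]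
    exact hz
  · intro x hx z hz
    rw [(Cm.commute D (comm_zero S v2 v3 (by simp [op, i0, i1]) (by simp [op, i0, i2]) (by simp [op, i1, i2])
      (by simp [op, i2])) hx hz).eq, mul_inv_cancel_right]
    exact hz
  · simp [chi, i0, i1, i2]

theorem comm_opp_long {a b : Sgn n} (hab : mag a ≠ mag b) :
    D.Cm a b (op b) (op b) (D.K a (op b) ⊔ D.K a a) := by
  obtain ⟨w, ha, hb⟩ := exists_act2 (a := Sum.inl (i0 hn)) (b := Sum.inr (i1 hn)) (by simp [mag, i0, i1]) hab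
  rw [← ha, ← hb, ← act_op]
  set p : Sgn n := Sum.inl (i0 hn)
  set q : Sgn n := Sum.inr (i1 hn)
  have hpq : mag p ≠ mag q := by simp [p, q, mag, i0, i1]
  have hpo : mag p ≠ mag (op q) := by rw [mag_op]; exact hpq
  have v1 : Valid p q := valid_of_mag hpq
  have v2 : Valid (op q) (op q) := valid_self _
  have v4 : Valid p (op q) := valid_of_mag hpo
  have hgen : ∀ g : G, (∀ z ∈ D.K p (op q), g * z * g⁻¹ ∈ D.K p (op q) ⊔ D.K p p) →
      (∀ z ∈ D.K p p, g * z * g⁻¹ ∈ D.K p (op q) ⊔ D.K p p) →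
      ∀ z ∈ D.K p (op q) ⊔ D.K p p, g * z * g⁻¹ ∈ D.K p (op q) ⊔ D.K p p := fun g h1 h2 z hz =>
    (sup_le (a := D.K p (op q)) (b := D.K p p)
      (c := (D.K p (op q) ⊔ D.K p p).comap (MulAut.conj g).toMonoidHom) h1 h2) hz
  refine Cm.move D v1 v2 (D.spread v1 v2 _ ?_ ?_
    (fun d => hgen _ (fun z hz => Subgroup.mem_sup_left (D.τ_conj d v4 hz))
      (fun z hz => Subgroup.mem_sup_right (D.τ_conj d (valid_self _) hz)))
    (fun l => ⟨Pi.mulSingle (i0 hn) l * Pi.mulSingle (i1 hn) l, ?_⟩) (one_half hn) ?_) w ?_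
  · intro x hx
    refine hgen x (fun z hz => ?_) (fun z hz => ?_)
    · rw [show x * z * x⁻¹ = ⁅x, z⁆ * z by simp [commutatorElement_def]]
      exact mul_mem (Subgroup.mem_sup_right (comm_opp S hpq x hx z hz)) (Subgroup.mem_sup_left hz)
    · rw [(Cm.commute D (comm_long S hpq) hx hz).eq, mul_inv_cancel_right]
      exact Subgroup.mem_sup_right hz
  · intro x hx
    refine hgen x (fun z hz => ?_) (fun z hz => ?_)
    · rw [(Cm.commute D (((comm_long S hpo.symm).swap₁ D).symm D) hx hz).eq, mul_inv_cancel_right]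
      exact Subgroup.mem_sup_left hz
    · rw [(Cm.commute D (comm_long_long S hpo.symm) hx hz).eq, mul_inv_cancel_right]
      exact Subgroup.mem_sup_right hz
  · simp [p, q, op, chi, i0, i1]
  · exact S.s5
  · exact fun z hz => sup_le (a := D.K p (op q)) (b := D.K p p)
      (c := (D.K (act w p) (act w (op q)) ⊔ D.K (act w p) (act w p)).comap (MulAut.conj (D.ι w)).toMonoidHom)
      (fun z hz => Subgroup.mem_sup_left (D.ι_conj w v4 hz))
      (fun z hz => Subgroup.mem_sup_right (D.ι_conj w (valid_self _) hz)) hz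

end Base

end Cfsg.Lib.SpPres
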