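import Mathlib
import Cfsg.Agent.Known.SLnPres.Choice

/-!
# Root elements and signed monomials of the symplectic group
-/

set_option autoImplicit false
set_option linter.unusedSectionVars false

namespace Cfsg.Lib.SpPres

open Matrix

/-- Signed indices. -/
abbrev Sgn (n : ℕ) : Type := Fin n ⊕ Fin n

/-- The symplectic group. -/
abbrev Sp (n : ℕ) (F : Type*) [Field F] : Submonoid (Matrix (Sgn n) (Sgn n) F) := Matrix.symplecticGroup (Fin n) F

variable {n : ℕ} {F : Type*} [Field F]

local notation "J₀" => Matrix.J (Fin n) F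

/-- The opposite index. -/
def op (a : Sgn n) : Sgn n := a.swap

theorem op_op (a : Sgn n) : op (op a) = a := Sum.swap_swap a

theorem op_inj {a b : Sgn n} : op a = op b ↔ a = b :=
  ⟨fun h => by rw [← op_op a, h, op_op], fun h => by rw [h]⟩

theorem op_ne (a : Sgn n) : op a ≠ a := by cases a <;> simp [op]

theorem op_eq_iff {a b : Sgn n} : op a = b ↔ a = op b := by
  constructor <;> intro h
  · rw [← h, op_op]
  · rw [h, op_op]

/-- The index without its sign. -/
def mag : Sgn n → Fin n := Sum.elim id id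

theorem mag_op (a : Sgn n) : mag (op a) = mag a := by cases a <;> rfl

theorem eq_or_op {a b : Sgn n} (h : mag a = mag b) : a = b ∨ a = op b := by
  cases a <;> cases b <;> simp_all [mag, op]

theorem mag_ne {a b : Sgn n} (h1 : a ≠ b) (h2 : a ≠ op b) : mag a ≠ mag b := fun h =>
  (eq_or_op h).elim h1 h2

theorem ne_of_mag {a b : Sgn n} (h : mag a ≠ mag b) : a ≠ b ∧ a ≠ op b :=
  ⟨fun e => h (by rw [e]), fun e => h (by rw [e, mag_op])⟩

/-- The sign of the form at an index. -/
def jj : Sgn n → F := Sum.elim (fun _ => -1) fun _ => 1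

theorem jj_ne (a : Sgn n) : (jj a : F) ≠ 0 := by cases a <;> simp [jj]

theorem J_apply (a b : Sgn n) : J₀ a b = if b = op a then jj a else 0 := by
  rcases a with i | i <;> rcases b with j | j <;>
    simp [Matrix.J, jj, op, Matrix.one_apply, eq_comm] <;> split_ifs <;> simp_all

theorem single_J_single (a b c d : Sgn n) :
    Matrix.single a b (1 : F) * J₀ * Matrix.single c d 1 = J₀ b c • Matrix.single a d 1 := by
  ext x y
  rw [Matrix.mul_apply, Finset.sum_eq_single c]
  · rw [Matrix.mul_apply, Finset.sum_eq_single b]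
    · simp only [Matrix.smul_apply, Matrix.single_apply, smul_eq_mul]
      by_cases h1 : a = x <;> by_cases h2 : d = y <;> simp [h1, h2]
    · intro e _ he; simp [Matrix.single_apply, Ne.symm he]
    · simp
  · intro e _ he; simp [Matrix.single_apply, Ne.symm he]
  · simp

theorem single_J_single_zero {a b c d : Sgn n} (h : c ≠ op b) :
    Matrix.single a b (1 : F) * J₀ * Matrix.single c d 1 = 0 := by
  rw [single_J_single, J_apply, if_neg h, zero_smul]

/-- The symmetric matrix of a root. -/
def sym (a b : Sgn n) : Matrix (Sgn n) (Sgn n) F :=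
  if a = b then Matrix.single a a 1 else Matrix.single a b 1 + Matrix.single b a 1

theorem sym_comm (a b : Sgn n) : (sym a b : Matrix (Sgn n) (Sgn n) F) = sym b a := by
  unfold sym
  by_cases h : a = b
  · subst h; rfl
  · rw [if_neg h, if_neg (Ne.symm h), add_comm]

theorem sym_transpose (a b : Sgn n) : (sym a b : Matrix (Sgn n) (Sgn n) F)ᵀ = sym a b := by
  unfold sym
  split_ifs <;> simp [Matrix.transpose_add, Matrix.transpose_single, add_comm]

/-- A valid root. -/
def Valid (a b : Sgn n) : Prop := b ≠ op a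

theorem Valid.symm {a b : Sgn n} (h : Valid a b) : Valid b a := fun e => h (by rw [e, op_op])

theorem valid_self (a : Sgn n) : Valid a a := (op_ne a).symm

theorem valid_of_mag {a b : Sgn n} (h : mag a ≠ mag b) : Valid a b := (ne_of_mag (Ne.symm h)).2

theorem sym_J_sym {a b c d : Sgn n} (h1 : c ≠ op a) (h2 : c ≠ op b) (h3 : d ≠ op a) (h4 : d ≠ op b) :
    (sym a b : Matrix (Sgn n) (Sgn n) F) * J₀ * sym c d = 0 := by
  have z : ∀ {x y z w : Sgn n}, z ≠ op y → Matrix.single x y (1 : F) * J₀ * Matrix.single z w 1 = 0 :=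
    fun h => single_J_single_zero h
  unfold sym
  split_ifs <;> simp only [add_mul, mul_add, z h1, z h2, z h3, z h4, add_zero]

theorem sym_isotropic {a b : Sgn n} (h : Valid a b) : (sym a b : Matrix (Sgn n) (Sgn n) F) * J₀ * sym a b = 0 :=
  sym_J_sym (op_ne a).symm h.symm h (op_ne b).symm

/-- The transvection of a symmetric matrix. -/
def U (S : Matrix (Sgn n) (Sgn n) F) : Matrix (Sgn n) (Sgn n) F := 1 + S * J₀

theorem U_mem {S : Matrix (Sgn n) (Sgn n) F} (hS : Sᵀ = S) (h : S * J₀ * S = 0) : U S ∈ Sp n F := by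
  rw [SymplecticGroup.mem_iff, U]
  simp only [transpose_add, transpose_one, transpose_mul, hS, add_mul, mul_add, one_mul, mul_one, J_transpose]
  have e1 : S * J₀ * J₀ = -S := by rw [mul_assoc, J_squared]; simp
  have e2 : J₀ * (-J₀ * S) = S := by rw [← mul_assoc, mul_neg, J_squared]; simp
  have e3 : -S * (-J₀ * S) = S * J₀ * S := by simp [mul_assoc]
  rw [e1, e2, e3, h]
  abel

theorem U_mul {S S' : Matrix (Sgn n) (Sgn n) F} (h : S * J₀ * S' = 0) : U S * U S' = U (S + S') := by
  rw [U, U, U, add_mul, mul_add, mul_add, one_mul, one_mul, mul_one, ← mul_assoc, h, zero_mul, add_zero, add_mul]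
  abel

theorem U_zero : U (0 : Matrix (Sgn n) (Sgn n) F) = 1 := by simp [U]

theorem U_inj {S S' : Matrix (Sgn n) (Sgn n) F} (h : U S = U S') : S = S' := by
  have := add_left_cancel h
  have h2 := congrArg (fun X => X * J₀) this
  simp only [mul_assoc, J_squared] at h2
  simpa using h2

theorem U_conj {M S : Matrix (Sgn n) (Sgn n) F} (hM : M ∈ Sp n F) : M * U S = U (M * S * Mᵀ) * M := by
  rw [U, U, mul_add, mul_one, add_mul, one_mul]
  congr 1
  calc M * (S * J₀) = M * S * J₀ := by rw [mul_assoc]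
    _ = M * S * (Mᵀ * J₀ * M) := by rw [SymplecticGroup.mem_iff'.1 hM]
    _ = _ := by simp only [mul_assoc]

/-- The root elements. -/
def T (a b : Sgn n) (t : F) : Sp n F :=
  if h : b ≠ op a then ⟨U (t • sym a b), U_mem (by rw [transpose_smul, sym_transpose])
    (by rw [smul_mul_assoc, smul_mul_assoc, mul_smul_comm, sym_isotropic h, smul_zero, smul_zero])⟩
  else 1

theorem coe_T {a b : Sgn n} (h : Valid a b) (t : F) :
    (T a b t : Matrix (Sgn n) (Sgn n) F) = U (t • sym a b) := by rw [T, dif_pos (show b ≠ op a from h)]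

theorem T_comm (a b : Sgn n) (t : F) : T a b t = T b a t := by
  by_cases h : Valid a b
  · exact Subtype.ext (by rw [coe_T h, coe_T h.symm, sym_comm])
  · rw [T, T, dif_neg (show ¬b ≠ op a from h), dif_neg (show ¬a ≠ op b from fun e => h (Valid.symm (a := b) e))]

theorem T_add (a b : Sgn n) (t u : F) : T a b (t + u) = T a b t * T a b u := by
  by_cases h : Valid a b
  · refine Subtype.ext ?_
    rw [Submonoid.coe_mul, coe_T h, coe_T h, coe_T h, U_mul, add_smul]
    rw [smul_mul_assoc, smul_mul_assoc, mul_smul_comm, sym_isotropic h, smul_zero, smul_zero]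
  · simp [T, dif_neg (show ¬ b ≠ op a from h)]

theorem T_zero (a b : Sgn n) : T a b (0 : F) = 1 := by
  have := T_add a b (0 : F) 0
  rwa [add_zero, left_eq_mul] at this

theorem sym_apply (a b x y : Sgn n) :
    (sym a b : Matrix (Sgn n) (Sgn n) F) x y = if (x = a ∧ y = b) ∨ (x = b ∧ y = a) then 1 else 0 := by
  unfold sym
  split_ifs with h1 h2 h2
  · subst h1; rcases h2 with ⟨rfl, rfl⟩ | ⟨rfl, rfl⟩ <;> simp
  · subst h1
    rw [Matrix.single_apply, if_neg]
    rintro ⟨rfl, rfl⟩; exact h2 (Or.inl ⟨rfl, rfl⟩)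
  · rcases h2 with ⟨rfl, rfl⟩ | ⟨rfl, rfl⟩ <;> simp [Matrix.single_apply, h1, Ne.symm h1]
  · rw [Matrix.add_apply, Matrix.single_apply, Matrix.single_apply, if_neg, if_neg, add_zero]
    · rintro ⟨rfl, rfl⟩; exact h2 (Or.inr ⟨rfl, rfl⟩)
    · rintro ⟨rfl, rfl⟩; exact h2 (Or.inl ⟨rfl, rfl⟩)

theorem T_inj {a b c d : Sgn n} (h : Valid a b) (h' : Valid c d) {t u : F} (ht : t ≠ 0)
    (e : T a b t = T c d u) : ((a = c ∧ b = d) ∨ (a = d ∧ b = c)) ∧ t = u := by
  have e' := congrArg Subtype.val e
  rw [coe_T h, coe_T h'] at e'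
  have e2 := congrFun (congrFun (U_inj e') a) b
  simp only [Matrix.smul_apply, sym_apply, smul_eq_mul, true_and, true_or, if_true, mul_one] at e2
  by_cases hc : (a = c ∧ b = d) ∨ (a = d ∧ b = c)
  · rw [if_pos hc, mul_one] at e2; exact ⟨hc, e2⟩
  · rw [if_neg hc, mul_zero] at e2; exact absurd e2 ht

/-- A monomial matrix. -/
def Mono (M : Matrix (Sgn n) (Sgn n) F) (π : Sgn n → Sgn n) (ε : Sgn n → F) : Prop :=
  ∀ i j, M i j = if i = π j then ε j else 0

theorem Mono.mul {M N : Matrix (Sgn n) (Sgn n) F} {π ρ : Sgn n → Sgn n} {ε δ : Sgn n → F} (hM : Mono M π ε)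
    (hN : Mono N ρ δ) : Mono (M * N) (π ∘ ρ) (fun j => ε (ρ j) * δ j) := fun i j => by
  rw [Matrix.mul_apply, Finset.sum_eq_single (ρ j)]
  · rw [hM, hN]; simp
  · intro c _ hc; rw [hN, if_neg hc, mul_zero]
  · simp

theorem Mono.single {M : Matrix (Sgn n) (Sgn n) F} {π : Sgn n → Sgn n} {ε : Sgn n → F} (hM : Mono M π ε)
    (a b : Sgn n) : M * Matrix.single a b (1 : F) * Mᵀ = (ε a * ε b) • Matrix.single (π a) (π b) 1 := by
  ext x y
  rw [Matrix.mul_apply, Finset.sum_eq_single b]
  · rw [Matrix.mul_apply, Finset.sum_eq_single a]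
    · simp only [Matrix.single_apply, Matrix.smul_apply, Matrix.transpose_apply, hM x a, hM y b, smul_eq_mul]
      by_cases h1 : x = π a <;> by_cases h2 : y = π b <;> simp [h1, h2, eq_comm]
      all_goals (intros; simp_all)
    · intro e _ he; simp [Matrix.single_apply, Ne.symm he]
    · simp
  · intro e _ he
    rw [Matrix.mul_apply, Finset.sum_eq_zero (fun c _ => by simp [Matrix.single_apply, Ne.symm he]), zero_mul]
  · simp

theorem Mono.op {M : Matrix (Sgn n) (Sgn n) F} {π : Sgn n → Sgn n} {ε : Sgn n → F} (hM : Mono M π ε)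
    (hmem : M ∈ Sp n F) (a : Sgn n) : π (op a) = Cfsg.Lib.SpPres.op (π a) ∧ ε a ≠ 0 := by
  have h := congrFun (congrFun (SymplecticGroup.mem_iff'.1 hmem) a) (Cfsg.Lib.SpPres.op a)
  rw [J_apply a (Cfsg.Lib.SpPres.op a), if_pos rfl, Matrix.mul_apply,
    Finset.sum_eq_single (π (Cfsg.Lib.SpPres.op a))] at h
  · rw [Matrix.mul_apply, Finset.sum_eq_single (π a)] at h
    · rw [Matrix.transpose_apply, hM, hM, if_pos rfl, if_pos rfl, J_apply] at h
      split_ifs at h with h'
      · exact ⟨h', fun h0 => jj_ne (F := F) a (by rw [← h, h0]; ring)⟩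
      · exact absurd h.symm (by simpa using jj_ne (F := F) a)
    · intro c _ hc; rw [Matrix.transpose_apply, hM, if_neg hc, zero_mul]
    · simp
  · intro c _ hc; rw [hM c, if_neg hc, mul_zero]
  · simp

theorem Mono.inj {M : Matrix (Sgn n) (Sgn n) F} {π : Sgn n → Sgn n} {ε : Sgn n → F} (hM : Mono M π ε)
    (hmem : M ∈ Sp n F) : Function.Injective π := by
  intro a b hab
  by_contra hne
  have h := congrFun (congrFun (SymplecticGroup.mem_iff'.1 hmem) a) (Cfsg.Lib.SpPres.op b)
  rw [J_apply a, if_neg fun e => hne (op_inj.1 e).symm, Matrix.mul_apply,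
    Finset.sum_eq_single (π (Cfsg.Lib.SpPres.op b))] at h
  · rw [Matrix.mul_apply, Finset.sum_eq_single (π a)] at h
    · rw [Matrix.transpose_apply, hM, hM, if_pos rfl, if_pos rfl, (hM.op hmem b).1, J_apply, hab, if_pos rfl] at h
      rcases mul_eq_zero.1 h with h | h
      · rcases mul_eq_zero.1 h with h | h
        · exact (hM.op hmem a).2 h
        · exact jj_ne (F := F) _ h
      · exact (hM.op hmem (Cfsg.Lib.SpPres.op b)).2 h
    · intro c _ hc; rw [Matrix.transpose_apply, hM, if_neg hc, zero_mul]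
    · simp
  · intro c _ hc; rw [hM c, if_neg hc, mul_zero]
  · simp

theorem T_conj {M : Sp n F} {π : Sgn n → Sgn n} {ε : Sgn n → F}
    (hM : Mono (M : Matrix (Sgn n) (Sgn n) F) π ε) {a b : Sgn n} (h : Valid a b) (t : F) :
    Valid (π a) (π b) ∧ M * T a b t * M⁻¹ = T (π a) (π b) (ε a * ε b * t) := by
  have hv : Valid (π a) (π b) := fun e => h ((hM.inj M.2) (by rw [e, (hM.op M.2 a).1]))
  refine ⟨hv, ?_⟩
  rw [mul_inv_eq_iff_eq_mul]
  refine Subtype.ext ?_
  rw [Submonoid.coe_mul, Submonoid.coe_mul, coe_T h, coe_T hv, U_conj M.2]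
  congr 2
  rw [mul_smul_comm, smul_mul_assoc, mul_comm (ε a * ε b) t, mul_smul]
  congr 1
  unfold sym
  by_cases hab : a = b
  · subst hab; rw [if_pos rfl, if_pos rfl, hM.single]
  · rw [if_neg hab, if_neg ((hM.inj M.2).ne hab), mul_add, add_mul, hM.single, hM.single, smul_add, mul_comm (ε b)]

/-- The signed permutations, with signs of order four. -/
def permAut (n : ℕ) : Equiv.Perm (Fin n) →* MulAut (Fin n → Multiplicative (ZMod 4)) where
  toFun σ :=
    { toFun := fun c i => c (σ⁻¹ i)
      invFun := fun c i => c (σ i)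
      left_inv := fun c => by funext i; simp
      right_inv := fun c => by funext i; simp
      map_mul' := fun c d => rfl }
  map_one' := by ext c i; rfl
  map_mul' σ τ := by ext c i; rfl

/-- The group of signed permutations. -/
abbrev W (n : ℕ) : Type := (Fin n → Multiplicative (ZMod 4)) ⋊[permAut n] Equiv.Perm (Fin n)

/-- Cosine of a quarter turn. -/
def cs (k : ZMod 4) : F := if k = 0 then 1 else if k = 2 then -1 else 0

/-- Sine of a quarter turn. -/
def sn (k : ZMod 4) : F := if k = 1 then 1 else if k = 3 then -1 else 0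

theorem four : ∀ k : ZMod 4, k = 0 ∨ k = 1 ∨ k = 2 ∨ k = 3 := by decide

theorem cs_add (k l : ZMod 4) : (cs (k + l) : F) = cs k * cs l - sn k * sn l := by
  rcases four k with rfl | rfl | rfl | rfl <;> rcases four l with rfl | rfl | rfl | rfl <;>
    simp +decide [cs, sn]

theorem sn_add (k l : ZMod 4) : (sn (k + l) : F) = sn k * cs l + cs k * sn l := by
  rcases four k with rfl | rfl | rfl | rfl <;> rcases four l with rfl | rfl | rfl | rfl <;>
    simp +decide [cs, sn]

theorem cs_sq (k : ZMod 4) : (cs k : F) * cs k + sn k * sn k = 1 := by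
  rcases four k with rfl | rfl | rfl | rfl <;> simp +decide [cs, sn]

/-- The matrix of quarter turns. -/
def turnM (c : Fin n → Multiplicative (ZMod 4)) : Matrix (Sgn n) (Sgn n) F :=
  fromBlocks (diagonal fun i => cs (c i).toAdd) (diagonal fun i => sn (c i).toAdd)
    (diagonal fun i => -sn (c i).toAdd) (diagonal fun i => cs (c i).toAdd)

/-- The quarter turns. -/
def turn : (Fin n → Multiplicative (ZMod 4)) →* Sp n F where
  toFun c := ⟨turnM c, by
    rw [SymplecticGroup.mem_iff, turnM, Matrix.J, fromBlocks_transpose]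
    simp only [fromBlocks_multiply, diagonal_transpose, mul_zero, zero_add, add_zero, mul_neg, mul_one,
      neg_mul, diagonal_mul_diagonal, diagonal_neg, diagonal_add, neg_neg, zero_mul]
    have e1 := fun i => cs_sq (F := F) (c i).toAdd
    congr 1 <;> ext i j <;> by_cases h : i = j <;> simp [diagonal, Matrix.one_apply, h] <;>
      first | linear_combination e1 j | linear_combination -(e1 j) | ring⟩
  map_one' := Subtype.ext (by simp +decide [turnM, cs, sn, fromBlocks_one, diagonal_zero])
  map_mul' c d := Subtype.ext (by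
    show turnM (c * d) = turnM c * turnM d
    simp only [turnM, fromBlocks_multiply, diagonal_mul_diagonal, diagonal_add, Pi.mul_apply, toAdd_mul, cs_add,
      sn_add]
    congr 1 <;> congr 1 <;> funext i <;> ring)

/-- The permutation matrices. -/
def permM (σ : Equiv.Perm (Fin n)) : Matrix (Sgn n) (Sgn n) F :=
  Matrix.of fun i j => if i = Sum.map σ σ j then 1 else 0

/-- Where quarter turns send indices. -/
def turnIdx (c : Fin n → Multiplicative (ZMod 4)) (a : Sgn n) : Sgn n :=
  if (c (mag a)).toAdd = 1 ∨ (c (mag a)).toAdd = 3 then op a else a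

/-- The signs of quarter turns. -/
def turnSign (c : Fin n → Multiplicative (ZMod 4)) : Sgn n → F :=
  Sum.elim (fun i => cs (c i).toAdd - sn (c i).toAdd) (fun i => cs (c i).toAdd + sn (c i).toAdd)

theorem mono_turn (c : Fin n → Multiplicative (ZMod 4)) :
    Mono (turnM (F := F) c) (turnIdx c) (turnSign c) := by
  intro i j
  rcases i with i | i <;> rcases j with j | j <;>
    simp only [turnM, fromBlocks_apply₁₁, fromBlocks_apply₁₂, fromBlocks_apply₂₁, fromBlocks_apply₂₂,
      diagonal_apply, turnIdx, turnSign, mag, op, Sum.elim_inl, Sum.elim_inr, id, Sum.swap] <;>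
    rcases four (c j).toAdd with h | h | h | h <;> by_cases hij : i = j <;>
    simp +decide [hij, cs, sn, h]

theorem mono_permM (σ : Equiv.Perm (Fin n)) : Mono (permM (F := F) σ) (Sum.map σ σ) (fun _ => 1) := fun i j => rfl

/-- The permutations. -/
def perm : Equiv.Perm (Fin n) →* Sp n F where
  toFun σ := ⟨permM σ, by
    rw [SymplecticGroup.mem_iff]
    ext a b
    obtain ⟨a, rfl⟩ : ∃ a', Sum.map σ σ a' = a := ⟨Sum.map σ.symm σ.symm a, by cases a <;> simp⟩
    obtain ⟨b, rfl⟩ : ∃ b', Sum.map σ σ b' = b := ⟨Sum.map σ.symm σ.symm b, by cases b <;> simp⟩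
    have hinj : Function.Injective (Sum.map σ σ : Sgn n → Sgn n) := σ.injective.sumMap σ.injective
    rw [Matrix.mul_apply, Finset.sum_eq_single b]
    · rw [Matrix.mul_apply, Finset.sum_eq_single a]
      · simp only [permM, Matrix.of_apply, Matrix.transpose_apply, if_true, one_mul, mul_one, J_apply]
        have : ∀ x : Sgn n, op (Sum.map σ σ x) = Sum.map σ σ (op x) := fun x => by cases x <;> rfl
        rw [this]
        simp only [hinj.eq_iff]
        congr 1
        cases a <;> rfl
      · intro e _ he; simp [permM, hinj.eq_iff, Ne.symm he]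
      · simp
    · intro e _ he; simp [permM, hinj.eq_iff, Ne.symm he]
    · simp⟩
  map_one' := Subtype.ext (by
    ext i j
    have : Sum.map (⇑(1 : Equiv.Perm (Fin n))) (⇑(1 : Equiv.Perm (Fin n))) j = j := by cases j <;> rfl
    simp [permM, Matrix.one_apply, this])
  map_mul' σ τ := Subtype.ext (by
    have h := (mono_permM (F := F) σ).mul (mono_permM τ)
    show permM (σ * τ) = permM σ * permM τ
    ext i j
    rw [h i j, mono_permM (σ * τ) i j]
    have : Sum.map (⇑(σ * τ)) (⇑(σ * τ)) j = (Sum.map σ σ ∘ Sum.map τ τ) j := by cases j <;> rfl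
    rw [this]; simp)

theorem Mono.ext {M N : Matrix (Sgn n) (Sgn n) F} {π ρ : Sgn n → Sgn n} {ε δ : Sgn n → F} (hM : Mono M π ε)
    (hN : Mono N ρ δ) (h : π = ρ) (h' : ε = δ) : M = N := by
  ext i j; rw [hM, hN, h, h']

/-- The matrices of signed permutations. -/
def mp : W n →* Sp n F :=
  SemidirectProduct.lift turn perm fun σ => by
    refine MonoidHom.ext fun c => ?_
    show turn (permAut n σ c) = perm σ * turn c * (perm σ)⁻¹
    rw [eq_mul_inv_iff_mul_eq]
    refine Subtype.ext ?_
    rw [Submonoid.coe_mul, Submonoid.coe_mul]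
    refine ((mono_turn _).mul (mono_permM σ)).ext ((mono_permM σ).mul (mono_turn c)) ?_ ?_
    · funext a
      cases a <;> simp [turnIdx, mag, op, permAut] <;> split_ifs <;> simp_all
    · funext a
      cases a <;> simp [turnSign, permAut]

/-- The action on signed indices. -/
def act (w : W n) : Sgn n → Sgn n := turnIdx w.left ∘ Sum.map w.right w.right

/-- The signs. -/
def eps (w : W n) (a : Sgn n) : F := turnSign w.left (Sum.map w.right w.right a) * 1

theorem mono_mp (w : W n) : Mono ((mp w : Sp n F) : Matrix (Sgn n) (Sgn n) F) (act w) (eps w) := by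
  show Mono ((turn w.left * perm w.right : Sp n F) : Matrix (Sgn n) (Sgn n) F) _ _
  rw [Submonoid.coe_mul]
  exact (mono_turn _).mul (mono_permM _)

theorem mag_act (w : W n) (a : Sgn n) : mag (act w a) = w.right (mag a) := by
  rcases a with i | i <;> simp only [act, Function.comp_apply, turnIdx] <;> split_ifs <;> rfl

/-- The diagonal matrices. -/
def dd : (Fin n → Fˣ) →* Sp n F where
  toFun d := ⟨fromBlocks (diagonal fun i => (d i : F)) 0 0 (diagonal fun i => ((d i)⁻¹ : Fˣ)), by
    rw [SymplecticGroup.mem_iff, Matrix.J, fromBlocks_transpose]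
    simp only [fromBlocks_multiply, diagonal_transpose, transpose_zero, mul_zero, zero_mul, add_zero, zero_add,
      mul_neg, mul_one, neg_mul, diagonal_mul_diagonal]
    rw [← diagonal_one]
    congr 1 <;> simp⟩
  map_one' := Subtype.ext (by simp [fromBlocks_one])
  map_mul' d e := Subtype.ext (by
    simp only [Submonoid.coe_mul, fromBlocks_multiply, Pi.mul_apply, mul_inv, Units.val_mul, diagonal_mul_diagonal,
      mul_zero, zero_mul, add_zero, zero_add])

/-- The character of an index. -/
def chi (d : Fin n → Fˣ) : Sgn n → F := Sum.elim (fun i => (d i : F)) fun i => ((d i)⁻¹ : Fˣ)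

theorem mono_dd (d : Fin n → Fˣ) : Mono ((dd d : Sp n F) : Matrix (Sgn n) (Sgn n) F) id (chi d) := by
  intro i j
  show (fromBlocks (diagonal fun i => (d i : F)) 0 0 (diagonal fun i => ((d i)⁻¹ : Fˣ))) i j = _
  rcases i with i | i <;> rcases j with j | j <;> simp [diagonal_apply, chi] <;>
    split_ifs with h <;> simp_all

theorem chi_ne (d : Fin n → Fˣ) (a : Sgn n) : chi d a ≠ 0 := by cases a <;> simp [chi]

theorem dd_T (d : Fin n → Fˣ) {a b : Sgn n} (h : Valid a b) (t : F) :
    dd d * T a b t * (dd d)⁻¹ = T a b (chi d a * chi d b * t) := (T_conj (mono_dd d) h t).2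

theorem mp_T (w : W n) {a b : Sgn n} (h : Valid a b) (t : F) :
    Valid (act w a) (act w b) ∧ mp w * T a b t * (mp w)⁻¹ = T (act w a) (act w b) (eps w a * eps w b * t) :=
  T_conj (mono_mp w) h t

theorem eps_ne (w : W n) (a : Sgn n) : (eps w a : F) ≠ 0 := ((mono_mp w).op (mp (F := F) w).2 a).2

theorem act_op (w : W n) (a : Sgn n) : act w (op a) = op (act w a) := by
  rcases a with i | i <;> simp only [act, Function.comp_apply, turnIdx, op, mag] <;>
    simp <;> split_ifs <;> simp_all

theorem act_inj (w : W n) : Function.Injective (act w) := (mono_mp (F := ℚ) w).inj (mp (F := ℚ) w).2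

theorem act_mul (w w' : W n) : act (w * w') = act w ∘ act w' := by
  have h1 := mono_mp (F := ℚ) (w * w')
  rw [map_mul, Submonoid.coe_mul] at h1
  have h2 := (mono_mp (F := ℚ) w).mul (mono_mp w')
  funext j
  have := (h1 (act (w * w') j) j).symm.trans (h2 _ j)
  rw [if_pos rfl] at this
  by_contra hne
  rw [if_neg hne] at this
  exact eps_ne (F := ℚ) _ _ this

/-- Signed permutations with prescribed values. -/
theorem exists_act {k : ℕ} {f g : Fin k → Sgn n} (hf : Function.Injective (mag ∘ f))
    (hg : Function.Injective (mag ∘ g)) : ∃ w : W n, ∀ i, act w (f i) = g i := by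
  classical
  obtain ⟨σ, hσ⟩ := SLnPres.exists_perm_map hf hg
  let c : Fin n → Multiplicative (ZMod 4) := fun x =>
    if ∃ i, mag (g i) = x ∧ Sum.map σ σ (f i) ≠ g i then Multiplicative.ofAdd 1 else 1
  refine ⟨⟨c, σ⟩, fun i => ?_⟩
  have hm : mag (Sum.map σ σ (f i)) = mag (g i) := by
    have e := hσ i; cases hfi : f i <;> simp_all [mag]
  show turnIdx c (Sum.map σ σ (f i)) = g i
  simp only [turnIdx, hm, c]
  by_cases h : Sum.map σ σ (f i) = g i
  · rw [if_neg (show ¬∃ j, mag (g j) = mag (g i) ∧ Sum.map σ σ (f j) ≠ g j from fun ⟨j, hj, hne⟩ => by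
      obtain rfl := hg hj
      exact hne h)]
    simp +decide [h]
  · have hc : ∃ j, mag (g j) = mag (g i) ∧ Sum.map σ σ (f j) ≠ g j := ⟨i, rfl, h⟩
    rw [if_pos hc]
    simp only [toAdd_ofAdd, true_or, if_true]
    rw [(eq_or_op hm).resolve_left h, op_op]

end Cfsg.Lib.SpPres
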